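import Cfsg.Agent.Lib.Schur.Fi23c.Logic

/-!
# Words and rewriting moves for the stem extensions of the group on the diagram `Y₃₄₂`
-/

set_option autoImplicit false
set_option maxRecDepth 100000

namespace Cfsg.Agent.Lib.Schur.Fi23c.Data

open Cfsg.Agent.Lib.Schur.CoxRew Cfsg.Agent.Lib.Schur.Fi23c.Logic

/-- The tenth power of the first word. -/
def spiderW : List ℕ :=
    [9,8,3,5,4,3,1,2,3,9,8,3,5,4,3,1,2,3,9,8,3,5,4,3,1,2,3,9,8,3,5,4,3,1,2,3,9,8,3,5,4,3,1,2,3,9,8,3,5,4,3,1,2,3,9,8,3,5,4,3,1,2,3,9,8,3,5,4,3,1,2,3,9,8,3,5,4,3,1,2,3,9,8,3,5,4,3,1,2,3]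

/-- The ninth power of the Coxeter element of `E₇`. -/
def e7W : List ℕ :=
    [8,5,4,3,2,1,0,8,5,4,3,2,1,0,8,5,4,3,2,1,0,8,5,4,3,2,1,0,8,5,4,3,2,1,0,8,5,4,3,2,1,0,8,5,4,3,2,1,0,8,5,4,3,2,1,0,8,5,4,3,2,1,0]

/-- A conjugating word. -/
def g1 : List ℕ := [2,3,4,2,8,4,5,8]

/-- A conjugating word. -/
def g2 : List ℕ :=
    [4,3,5,4,8,3,2,1,3,8,2,4,8,5,2,8,1,5,8,2,3,4,3,5,1,8,5,4,8,3,8,4,5,8,3,4,2,5,4,5,4,3,5,4,8,3,8,2,1,8,3,4,5,1,2,5,3,8,4,5,8,4,5,1,8,5,2,8,4,5,8,4,5,8,3,4,2,8,4,5,8]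

/-- Rewriting the square of the word of `E₇`. -/
def movesC : List (ℕ × ℕ) :=
    [(56,0),(57,0),(34,0),(35,0),(36,0),(37,0),(38,0),(39,1),(41,0),(42,0),(43,0),(44,0),(45,1),(47,0),(48,0),(49,0),(50,0),(51,1),(53,0),(54,0),(55,0),(33,0),(34,0),(35,0),(36,0),(37,1),(39,0),(40,0),(41,
    0),(42,0),(43,1),(45,0),(46,0),(40,0),(41,0),(32,0),(33,0),(34,0),(35,1),(37,0),(38,0),(39,0),(28,0),(29,0),(30,1),(32,0),(33,1),(35,0),(36,0),(37,0),(6,0),(7,0),(8,0),(9,0),(10,0),(11,1),(13,0),(14,0),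
    (15,0),(16,0),(17,1),(19,0),(20,0),(21,0),(22,0),(23,1),(25,0),(26,0),(27,0),(28,1),(30,0),(31,1),(33,0),(34,0),(35,0),(36,0),(37,1),(39,1),(41,1),(43,0),(44,0),(45,0),(46,1),(48,0),(49,1),(51,0),(52,
    0),(53,0),(40,0),(30,0),(31,0),(29,0),(27,1),(29,1),(31,1),(33,0),(34,0),(35,0),(36,0),(37,0),(38,1),(40,1),(42,0),(43,0),(44,0),(19,0),(20,0),(21,0),(22,0),(23,0),(24,1),(26,0),(27,0),(28,0),(29,0),(30,
    0),(31,0),(32,1),(34,0),(35,0),(36,0),(18,0),(19,0),(20,0),(21,0),(22,1),(24,0),(25,0),(26,0),(17,0),(18,0),(19,0),(20,1),(22,0),(23,0),(13,0),(14,0),(15,1),(17,0),(18,1),(20,0),(21,0),(22,0),(23,1),(25,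
    0),(26,1),(28,0),(29,0),(30,1),(32,0),(33,0),(28,0),(16,0),(17,0),(15,0),(13,1),(15,1),(17,1),(19,0),(20,0),(21,0),(5,0),(6,0),(7,0),(8,0),(9,1),(11,0),(12,0),(13,0),(4,0),(5,0),(6,0),(7,1),(9,0),(10,
    0),(0,0),(1,0),(2,1),(4,0),(5,1),(7,0),(8,0),(9,0),(10,1),(12,0),(13,1),(15,0),(16,0),(17,1),(19,0),(20,0),(21,1),(23,0),(24,0),(25,0),(26,1),(28,1),(30,0),(31,0),(32,0),(33,1),(35,0),(36,1),(38,0),(39,
    0),(40,1),(42,0),(43,0),(44,1),(46,0),(47,1),(49,0),(50,0),(51,0),(52,0),(53,1),(55,1),(57,1),(59,0),(60,0),(61,0),(62,2),(54,0),(20,0),(21,0),(22,0),(23,0),(24,0),(25,0),(26,0),(27,0),(28,0),(29,0),(30,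
    1),(32,0),(33,0),(34,0),(19,0),(20,0),(21,0),(22,0),(18,0),(16,1),(18,1),(20,0),(21,0),(22,1),(24,0),(25,0),(26,0),(27,0),(28,1),(30,0),(14,1),(16,0),(17,0),(18,1),(20,0),(21,0),(22,1),(24,0),(25,0),(26,
    1),(28,0),(29,0),(30,1),(32,0),(33,0),(34,1),(36,0),(37,0),(38,0),(39,0),(40,1),(42,0),(43,0),(16,0),(13,0),(14,1),(16,1),(18,0),(19,0),(20,0),(21,0),(22,1),(24,1),(26,0),(27,0),(28,0),(29,0),(30,1),(32,
    0),(33,0),(34,1),(36,0),(37,0),(38,1),(40,0),(41,0),(23,0),(11,1),(13,0),(14,0),(15,0),(16,0),(17,1),(19,0),(20,0),(21,1),(23,1),(25,0),(26,0),(27,0),(28,0),(10,0),(11,1),(13,0),(14,0),(15,1),(17,0),(18,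
    0),(19,1),(21,0),(22,0),(23,1),(25,0),(26,0),(13,0),(3,0),(4,0),(2,0),(0,1),(2,1),(4,1),(6,0),(7,0),(8,0),(9,0),(10,0),(11,1),(13,1),(15,0),(16,0),(17,1),(19,0),(20,0),(21,0),(22,0),(23,1),(25,0),(26,
    1),(28,1),(30,0),(31,0),(32,0),(33,0),(34,1),(36,1),(38,0),(39,0),(40,0),(41,1),(43,1),(45,0),(46,0),(47,0),(48,1),(50,0),(51,0),(52,1),(54,1),(56,0),(57,0),(58,0),(59,0),(60,0),(61,2),(55,0),(53,0),(45,
    0),(46,0),(44,0),(42,0),(31,0),(32,0),(33,0),(34,0),(30,0),(31,0),(29,0),(27,0),(8,0),(9,0),(10,0),(11,0),(12,0),(13,0),(14,0),(15,0),(7,0),(8,0),(9,0),(10,0),(6,0),(7,0),(5,0),(3,0),(1,0),(2,0),(3,1),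
    (5,1),(7,1),(9,0),(10,1),(12,0),(13,0),(14,0),(15,1),(17,0),(18,0),(19,0),(20,0),(21,0),(22,0),(23,1),(25,0),(26,0),(27,1),(29,1),(31,1),(33,0),(34,1),(36,0),(37,0),(38,0),(39,0),(40,0),(41,0),(42,1),
    (44,1),(46,1),(48,0),(49,0),(50,0),(51,0),(52,0),(53,1),(55,1),(57,0),(58,0),(59,0),(60,2),(24,0),(25,0),(26,0),(23,0),(24,0),(21,1),(23,0),(24,1),(26,1),(28,0),(29,0),(30,0),(31,0),(32,0),(33,0),(34,
    0),(35,0),(36,0),(37,1),(39,0),(27,0),(25,0),(20,0),(21,1),(23,0),(24,0),(25,1),(27,1),(29,0),(30,0),(31,0),(32,0),(33,0),(34,0),(35,1),(37,0),(28,0),(26,0),(19,0),(17,1),(19,1),(21,0),(22,0),(23,0),(24,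
    0),(25,0),(26,1),(28,1),(30,0),(31,0),(32,0),(33,1),(35,0),(36,0),(37,1),(39,1),(41,0),(42,0),(43,0),(44,0),(45,0),(46,0),(47,1),(49,0),(50,0),(51,0),(40,0),(41,0),(38,0),(21,0),(22,0),(23,0),(24,0),(20,
    0),(21,0),(18,0),(16,0),(17,0),(18,1),(20,0),(21,1),(23,0),(24,1),(26,0),(27,0),(28,1),(30,0),(31,1),(33,0),(34,0),(35,0),(36,0),(37,0),(38,1),(40,0),(41,1),(43,0),(44,0),(45,1),(47,0),(48,0),(43,0),(29,
    0),(30,0),(28,0),(26,0),(14,0),(15,0),(13,0),(12,0),(13,1),(15,1),(17,0),(18,0),(19,0),(20,0),(21,0),(22,0),(23,0),(24,0),(25,0),(26,1),(28,1),(30,1),(32,0),(33,0),(34,0),(35,0),(36,0),(25,0),(26,0),(16,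
    0),(17,0),(18,0),(14,0),(11,0),(12,0),(13,0),(14,1),(16,0),(17,0),(18,1),(20,0),(21,0),(22,0),(23,1),(25,0),(26,1),(28,0),(29,0),(30,1),(32,0),(33,0),(21,0),(22,0),(23,0),(24,0),(20,0),(9,0),(10,0),(11,
    0),(12,0),(8,0),(9,0),(6,0),(7,0),(8,0),(9,1),(11,0),(12,1),(14,0),(15,0),(16,0),(17,0),(18,1),(20,1),(22,0),(23,0),(24,1),(26,0),(27,0),(28,0),(29,0),(30,1),(32,0),(33,1),(35,0),(36,1),(38,0),(39,0),
    (40,0),(41,1),(43,1),(45,0),(46,0),(47,0),(48,1),(50,0),(51,1),(53,0),(54,0),(55,1),(57,0),(58,0),(59,2),(32,0),(33,0),(31,0),(29,1),(31,1),(33,1),(35,0),(36,0),(37,0),(38,0),(39,0),(40,0),(41,0),(42,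
    0),(43,0),(44,0),(45,1),(47,0),(48,0),(49,0),(34,0),(35,0),(36,0),(37,0),(32,0),(33,0),(30,0),(31,0),(28,0),(29,0),(30,0),(31,1),(33,1),(35,0),(36,0),(37,1),(39,0),(40,0),(41,0),(42,0),(43,1),(45,0),(27,
    0),(28,0),(29,0),(25,1),(27,0),(28,0),(29,1),(31,0),(32,0),(33,1),(35,0),(36,0),(37,1),(39,0),(40,0),(41,1),(43,0),(44,0),(45,1),(47,0),(48,0),(49,1),(51,0),(52,0),(53,0),(54,0),(55,1),(57,0),(58,2),(44,
    0),(45,0),(46,0),(47,0),(42,1),(44,0),(45,0),(46,0),(47,1),(49,0),(50,0),(51,0),(52,0),(53,0),(54,0),(55,1),(57,2),(56,2),(51,0),(35,0),(36,0),(37,0),(38,0),(34,0),(35,0),(33,0),(16,0),(17,0),(18,0),(19,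
    0),(20,0),(21,0),(22,0),(15,0),(16,0),(17,0),(14,0),(4,0),(5,0),(6,0),(7,0),(8,0),(9,1),(11,0),(12,1),(14,1),(16,0),(17,1),(19,0),(20,0),(21,0),(22,1),(24,0),(25,0),(26,1),(28,0),(29,0),(30,0),(31,1),
    (33,1),(35,1),(37,0),(38,1),(40,0),(41,0),(42,0),(43,0),(44,1),(46,0),(47,0),(48,0),(49,1),(51,1),(53,0),(54,0),(55,2),(45,0),(46,0),(47,0),(48,0),(44,0),(45,0),(46,0),(43,0),(44,0),(42,0),(27,0),(28,
    0),(29,0),(30,0),(26,0),(27,0),(28,0),(25,0),(10,0),(11,0),(9,0),(2,0),(0,1),(2,1),(4,0),(5,0),(6,0),(7,1),(9,1),(11,1),(13,0),(14,0),(15,0),(16,0),(17,0),(18,0),(19,1),(21,0),(22,0),(23,1),(25,1),(27,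
    0),(28,1),(30,1),(32,0),(33,0),(34,0),(35,0),(36,0),(37,0),(38,0),(39,0),(40,1),(42,1),(44,1),(46,1),(48,1),(50,0),(51,0),(52,0),(53,0),(54,2),(49,0),(47,0),(36,0),(37,0),(35,0),(20,0),(21,0),(22,0),(19,
    0),(20,0),(18,0),(19,0),(20,1),(22,1),(24,0),(25,0),(26,0),(27,0),(28,0),(29,0),(30,0),(31,0),(32,0),(33,1),(35,1),(37,1),(39,0),(40,0),(41,0),(42,0),(38,0),(39,0),(32,0),(33,0),(23,0),(21,0),(17,0),(6,
    0),(7,0),(8,0),(9,0),(10,0),(11,0),(12,0),(13,0),(14,0),(15,1),(17,1),(19,0),(20,0),(21,1),(23,1),(25,0),(26,0),(27,0),(28,0),(29,0),(30,1),(32,0),(33,1),(35,0),(36,0),(29,0),(30,0),(31,0),(27,0),(14,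
    0),(15,0),(16,0),(17,0),(18,0),(19,0),(13,0),(14,0),(5,0),(6,0),(7,0),(8,0),(9,0),(10,0),(11,1),(13,0),(14,1),(16,0),(10,0),(11,0),(12,0),(8,0),(3,1),(5,0),(6,0),(7,0),(8,1),(10,0),(11,0),(12,1),(14,0),
    (15,0),(16,1),(18,0),(19,1),(21,0),(22,0),(23,1),(25,0),(26,0),(27,1),(29,0),(30,0),(31,1),(33,0),(34,0),(35,0),(36,1),(38,0),(39,1),(41,0),(42,1),(44,0),(45,0),(46,0),(47,1),(49,1),(51,0),(52,0),(53,
    2),(44,0),(45,0),(34,0),(35,0),(36,0),(37,0),(24,0),(25,0),(26,0),(23,0),(24,0),(21,0),(15,0),(16,0),(17,0),(18,0),(19,0),(20,0),(21,1),(23,0),(24,1),(26,1),(28,0),(29,0),(30,0),(31,0),(32,1),(20,0),(21,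
    0),(22,0),(13,1),(15,0),(16,0),(17,0),(18,1),(20,0),(21,0),(22,1),(24,0),(25,0),(26,1),(28,0),(29,0),(30,1),(32,0),(33,1),(35,0),(36,0),(37,1),(39,0),(40,0),(41,0),(42,1),(44,0),(45,1),(47,0),(48,0),(49,
    1),(51,0),(52,2),(40,0),(41,0),(42,0),(43,0),(39,0),(31,1),(33,0),(34,0),(35,0),(36,0),(37,1),(39,1),(41,0),(42,0),(43,1),(45,0),(46,0),(47,0),(48,0),(49,1),(51,2),(50,2),(35,0),(36,0),(37,0),(38,0),(39,
    0),(40,0),(41,0),(34,0),(35,0),(36,0),(33,0),(16,0),(17,0),(18,0),(19,0),(20,0),(15,0),(5,0),(6,0),(1,0),(2,0),(3,1),(5,0),(6,1),(8,0),(9,0),(10,0),(11,0),(12,0),(13,1),(15,1),(17,0),(18,0),(19,0),(20,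
    1),(22,0),(23,0),(24,0),(25,0),(26,1),(28,0),(29,0),(30,0),(31,1),(33,1),(35,0),(36,1),(38,0),(39,0),(40,0),(41,1),(43,0),(44,0),(45,0),(46,0),(47,0),(48,0),(49,2),(45,0),(27,0),(28,0),(29,0),(30,0),(26,
    0),(27,0),(28,0),(25,0),(23,0),(10,0),(11,0),(12,0),(13,0),(14,0),(15,0),(16,0),(17,1),(19,0),(20,0),(21,0),(22,0),(23,1),(25,1),(22,0),(23,0),(9,0),(8,0),(9,1),(11,0),(12,0),(13,0),(14,0),(15,1),(17,
    0),(18,0),(19,0),(20,1),(22,0),(23,1),(25,0),(26,1),(28,1),(30,1),(32,0),(33,0),(34,0),(35,0),(36,0),(37,0),(38,1),(40,0),(41,0),(42,0),(43,1),(45,1),(47,0),(48,2),(39,0),(40,0),(41,0),(42,0),(38,0),(39,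
    0),(40,0),(37,0),(38,0),(36,0),(17,0),(18,0),(19,0),(20,0),(16,0),(17,0),(18,0),(15,0),(16,0),(14,0),(5,0),(6,0),(4,0),(1,0),(2,1),(4,1),(6,1),(8,0),(9,0),(10,0),(11,0),(12,1),(14,1),(16,1),(18,1),(20,
    1),(22,0),(23,0),(24,0),(25,0),(26,0),(27,0),(28,0),(29,0),(30,0),(31,0),(32,0),(33,0),(34,1),(36,1),(38,1),(40,1),(42,1),(44,0),(45,0),(46,0),(47,2),(43,0),(41,0),(33,0),(34,0),(35,0),(36,0),(32,0),(33,
    0),(21,0),(22,0),(19,0),(20,0),(17,0),(18,0),(11,0),(12,0),(7,0),(8,0),(9,1),(11,0),(12,1),(14,0),(15,0),(16,0),(17,0),(18,1),(20,1),(22,1),(24,0),(25,0),(26,0),(27,0),(28,0),(29,0),(30,1),(32,0),(33,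
    1),(35,0),(36,1),(38,0),(39,0),(40,0),(41,1),(43,1),(45,0),(46,2),(38,0),(39,0),(29,0),(30,0),(31,0),(27,0),(21,0),(22,1),(24,0),(25,0),(26,0),(27,1),(29,0),(30,0),(31,1),(33,0),(34,0),(35,0),(36,1),(38,
    0),(39,1),(41,0),(42,0),(43,1),(45,2),(44,2),(34,0),(35,0),(36,0),(37,0),(33,0),(24,0),(25,0),(14,0),(15,0),(16,0),(5,0),(6,0),(7,1),(9,0),(10,0),(11,0),(12,1),(14,0),(15,0),(16,1),(18,0),(19,0),(20,0),
    (21,0),(22,1),(24,0),(25,1),(27,0),(28,0),(29,0),(30,0),(31,1),(33,1),(35,0),(36,0),(37,1),(39,0),(40,0),(41,0),(42,0),(43,2),(29,0),(30,0),(31,0),(32,0),(33,0),(34,0),(35,0),(28,0),(29,0),(30,0),(27,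
    0),(10,0),(11,0),(12,0),(13,0),(14,0),(9,0),(3,0),(4,0),(5,0),(6,0),(7,1),(9,1),(11,0),(12,0),(13,0),(14,1),(16,0),(17,0),(18,0),(19,0),(20,0),(21,0),(22,1),(24,0),(25,1),(27,1),(29,0),(30,1),(32,0),(33,
    0),(34,0),(35,1),(37,0),(38,0),(39,0),(40,0),(41,0),(42,2),(39,0),(23,0),(24,0),(22,0),(17,0),(18,0),(19,0),(20,1),(22,1),(24,1),(26,0),(27,0),(28,0),(29,0),(30,0),(31,0),(32,1),(34,0),(35,0),(36,0),(37,
    1),(39,1),(41,2),(33,0),(34,0),(35,0),(36,0),(32,0),(33,0),(34,0),(31,0),(32,0),(30,0),(13,0),(14,0),(15,0),(16,0),(12,0),(13,0),(14,0),(11,0),(12,0),(10,0),(4,0),(5,0),(6,0),(7,0),(8,1),(10,1),(12,1),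
    (14,1),(16,1),(18,0),(19,0),(20,0),(21,0),(22,0),(23,0),(24,0),(25,0),(26,0),(27,0),(28,1),(30,1),(32,1),(34,1),(36,1),(38,0),(39,0),(40,2),(37,0),(35,0),(27,0),(28,0),(29,0),(30,0),(26,0),(27,0),(15,
    0),(16,1),(18,0),(19,0),(20,0),(21,0),(22,0),(23,0),(24,1),(26,0),(27,1),(29,0),(30,1),(32,0),(33,0),(34,0),(35,1),(37,1),(39,2),(38,2),(32,0),(33,0),(23,0),(24,0),(25,0),(21,0),(13,0),(14,0),(15,0),(16,
    1),(18,0),(19,0),(20,0),(21,1),(23,0),(24,0),(25,1),(27,0),(28,0),(29,0),(30,1),(32,0),(33,1),(35,0),(36,0),(37,2),(28,0),(29,0),(30,0),(31,0),(27,0),(18,0),(19,0),(11,0),(12,0),(13,0),(14,0),(15,0),(16,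
    1),(18,0),(19,1),(21,0),(22,0),(23,0),(24,0),(25,1),(27,1),(29,0),(30,0),(31,1),(33,0),(34,0),(35,0),(36,2),(23,0),(24,0),(25,0),(26,0),(27,0),(28,0),(29,0),(22,0),(23,0),(24,0),(21,0),(9,0),(10,0),(11,
    0),(12,0),(13,0),(14,0),(15,0),(16,1),(18,0),(19,1),(21,1),(23,0),(24,1),(26,0),(27,0),(28,0),(29,1),(31,0),(32,0),(33,0),(34,0),(35,2),(33,0),(34,2),(28,0),(29,0),(30,0),(31,0),(27,0),(28,0),(29,0),(26,
    0),(27,0),(25,0),(11,1),(13,0),(14,0),(15,0),(16,0),(17,0),(18,0),(19,0),(20,0),(21,0),(22,0),(23,1),(25,1),(27,1),(29,1),(31,1),(33,2),(32,2),(30,0),(31,2),(28,0),(29,0),(30,2),(26,0),(27,0),(28,0),(29,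
    2),(24,0),(25,0),(26,0),(27,0),(28,2),(22,0),(23,0),(21,0),(10,0),(11,1),(13,0),(14,0),(15,0),(16,0),(17,0),(18,0),(19,1),(21,1),(23,1),(25,0),(26,0),(27,2),(26,2),(25,2),(24,2),(22,0),(23,2),(20,0),(21,
    0),(22,2),(0,1),(2,0),(3,1),(5,0),(6,0),(7,0),(8,0),(9,1),(11,0),(12,0),(13,0),(14,0),(15,0),(16,0),(17,0),(18,0),(19,0),(20,0),(21,2),(20,2),(14,0),(15,0),(13,0),(6,0),(2,0),(3,0),(4,1),(6,1),(8,0),(9,
    0),(10,0),(11,1),(13,1),(15,1),(17,0),(18,0),(19,2),(16,0),(14,0),(7,0),(8,0),(9,1),(11,0),(12,0),(13,0),(14,1),(16,1),(18,2),(17,2),(15,0),(16,2),(1,0),(2,1),(4,0),(5,0),(6,0),(7,1),(9,0),(10,0),(11,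
    0),(12,0),(13,0),(14,0),(15,2),(0,1),(2,0),(3,0),(4,0),(5,1),(7,0),(8,0),(9,0),(10,0),(11,0),(12,0),(13,0),(14,2),(9,0),(10,0),(3,0),(4,0),(5,0),(6,0),(7,1),(9,0),(10,1),(12,0),(13,2),(9,0),(10,0),(8,
    0),(3,0),(4,0),(5,0),(6,1),(8,1),(10,1),(12,2),(11,2),(9,0),(10,2),(2,0),(3,0),(4,1),(6,0),(7,0),(8,0),(9,2),(1,0),(2,1),(4,0),(5,0),(6,0),(7,0),(8,2),(0,1),(2,0),(3,0),(4,0),(5,0),(6,0),(7,2),(4,0),(5,
    0),(6,2),(5,2),(4,2),(3,2),(2,2),(1,2),(0,2)]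

/-- Rewriting the product of three conjugates of the first word. -/
def movesW : List (ℕ × ℕ) :=
    [(86,0),(87,1),(89,2),(88,2),(85,0),(86,0),(87,2),(86,2),(80,0),(81,1),(83,0),(84,0),(85,2),(86,0),(87,0),(88,0),(89,0),(90,2),(85,0),(86,0),(87,0),(82,0),(83,0),(81,0),(82,0),(83,1),(85,0),(80,0),(81,
    0),(82,0),(83,1),(85,1),(87,1),(89,2),(88,2),(81,0),(82,0),(83,0),(84,0),(85,0),(86,0),(87,2),(79,0),(77,0),(78,0),(79,1),(81,0),(82,0),(71,0),(72,1),(74,0),(75,0),(76,0),(77,0),(78,0),(79,1),(81,0),(82,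
    1),(84,0),(85,0),(86,2),(81,0),(82,0),(80,0),(78,1),(80,1),(82,1),(84,0),(85,0),(86,2),(83,0),(81,0),(75,0),(74,0),(75,1),(73,0),(65,0),(66,1),(68,0),(69,0),(70,0),(71,0),(72,0),(73,1),(75,0),(76,1),(78,
    0),(79,0),(80,0),(81,1),(83,1),(85,2),(84,2),(82,0),(74,1),(76,0),(77,0),(78,0),(79,0),(80,0),(81,0),(82,1),(84,2),(81,0),(82,0),(73,0),(74,1),(76,0),(77,0),(78,0),(79,1),(81,0),(82,1),(84,0),(85,0),(83,
    0),(76,0),(77,0),(71,0),(72,0),(73,0),(74,1),(76,0),(77,1),(79,0),(80,0),(81,0),(71,0),(72,0),(73,0),(74,0),(75,0),(69,0),(70,0),(71,0),(67,0),(68,0),(69,0),(66,0),(67,0),(65,0),(66,0),(67,1),(69,1),(71,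
    1),(73,0),(74,0),(75,1),(77,0),(78,0),(79,0),(80,0),(81,1),(83,1),(85,1),(74,0),(75,0),(76,0),(77,0),(78,0),(73,0),(74,0),(72,0),(65,0),(66,0),(67,0),(68,0),(69,0),(70,1),(72,1),(74,1),(76,0),(77,0),(78,
    1),(80,0),(81,0),(82,0),(83,0),(79,0),(80,0),(69,0),(70,0),(59,0),(60,1),(62,0),(63,0),(64,0),(65,0),(66,0),(67,1),(69,0),(70,1),(72,0),(73,0),(74,1),(76,0),(77,0),(72,0),(62,1),(64,0),(65,0),(53,0),(54,
    1),(56,0),(57,0),(58,0),(59,0),(60,1),(62,0),(57,0),(58,0),(55,0),(56,0),(52,0),(53,0),(54,0),(51,0),(52,0),(53,0),(54,1),(56,1),(58,1),(60,0),(61,0),(62,1),(64,0),(65,1),(67,0),(68,0),(69,0),(70,1),(72,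
    1),(74,0),(75,0),(76,0),(77,1),(79,0),(80,1),(82,0),(83,1),(85,0),(86,1),(88,2),(84,1),(86,0),(87,2),(75,0),(76,0),(77,0),(78,0),(79,0),(80,0),(81,0),(82,0),(83,0),(84,0),(85,0),(86,2),(74,0),(73,0),(74,
    1),(76,0),(77,0),(78,0),(72,0),(73,0),(74,1),(76,0),(61,0),(62,0),(63,0),(59,1),(61,0),(62,0),(63,1),(65,0),(66,0),(67,0),(68,0),(69,0),(70,1),(72,0),(58,0),(59,1),(61,0),(62,0),(63,1),(65,0),(66,0),(67,
    0),(68,1),(70,0),(57,0),(52,0),(53,0),(54,0),(55,1),(57,1),(59,0),(60,0),(61,0),(62,0),(63,1),(65,0),(66,1),(68,0),(69,0),(70,1),(72,1),(74,0),(75,0),(76,1),(78,1),(80,0),(81,0),(65,0),(66,0),(67,0),(68,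
    0),(69,0),(70,0),(71,0),(72,0),(73,1),(64,0),(52,0),(53,0),(54,0),(55,0),(56,0),(57,0),(58,1),(60,0),(61,0),(62,1),(64,1),(66,0),(67,0),(47,0),(48,1),(50,0),(51,0),(52,0),(49,0),(41,0),(42,1),(44,0),(45,
    0),(46,0),(47,0),(48,0),(49,1),(51,0),(52,1),(54,0),(55,0),(56,1),(58,0),(59,0),(60,1),(62,0),(63,0),(64,1),(66,0),(67,1),(69,0),(70,0),(71,1),(73,0),(74,1),(76,0),(77,0),(78,1),(80,0),(81,1),(83,0),(84,
    0),(85,2),(79,0),(80,0),(78,0),(77,0),(78,1),(80,1),(82,0),(83,0),(66,0),(67,0),(68,0),(65,0),(63,1),(65,1),(67,0),(68,1),(70,0),(71,0),(72,0),(73,0),(74,0),(75,1),(61,1),(63,0),(64,0),(65,1),(67,0),(68,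
    1),(70,0),(71,0),(72,0),(73,1),(75,0),(76,1),(78,0),(79,0),(80,1),(82,0),(83,1),(70,1),(72,0),(73,0),(74,0),(75,0),(76,0),(77,0),(69,0),(70,1),(72,0),(73,0),(74,0),(68,0),(69,0),(70,1),(72,0),(67,0),(68,
    0),(69,0),(70,1),(72,1),(74,1),(76,0),(77,1),(79,0),(80,0),(81,0),(66,0),(67,0),(65,0),(63,0),(51,0),(52,0),(53,0),(50,0),(47,0),(48,1),(50,1),(52,0),(53,1),(55,0),(56,0),(57,0),(58,0),(59,0),(60,0),(61,
    0),(62,0),(63,1),(65,1),(67,1),(69,0),(70,0),(62,0),(63,0),(45,0),(44,0),(45,1),(43,0),(35,0),(36,1),(38,0),(39,0),(40,0),(41,0),(42,0),(43,1),(45,0),(46,1),(48,0),(49,0),(50,1),(52,0),(53,1),(55,0),(56,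
    0),(57,0),(58,0),(59,0),(60,1),(62,0),(63,1),(65,0),(66,0),(67,1),(69,0),(70,1),(72,0),(73,0),(74,1),(76,0),(77,1),(79,0),(80,0),(81,1),(83,0),(84,1),(86,2),(82,1),(84,0),(85,2),(80,0),(81,0),(82,0),(83,
    0),(84,2),(79,0),(78,0),(79,1),(81,0),(82,0),(83,2),(76,1),(78,0),(79,1),(81,0),(82,2),(81,0),(82,0),(83,0),(84,2),(80,0),(81,0),(79,0),(75,0),(76,0),(77,0),(56,0),(57,0),(55,0),(56,0),(57,1),(59,0),(60,
    0),(61,0),(62,0),(63,0),(64,0),(54,0),(51,0),(52,0),(44,1),(46,0),(47,0),(48,0),(49,0),(50,0),(51,0),(52,1),(54,1),(56,0),(57,1),(59,0),(60,0),(61,0),(51,0),(52,0),(49,0),(43,0),(44,1),(46,0),(47,0),(48,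
    0),(49,1),(51,0),(52,1),(54,0),(55,0),(56,0),(57,1),(59,0),(54,0),(55,0),(53,0),(46,0),(47,0),(41,0),(42,0),(43,0),(44,1),(46,0),(47,1),(49,0),(50,0),(51,0),(41,0),(42,0),(43,0),(44,0),(45,0),(39,0),(40,
    0),(41,0),(37,0),(38,0),(39,0),(36,0),(37,0),(35,0),(36,0),(37,1),(39,1),(41,1),(43,0),(44,0),(45,1),(47,0),(48,0),(49,0),(50,0),(51,1),(53,1),(55,1),(57,0),(58,0),(59,1),(61,1),(63,0),(64,1),(66,0),(67,
    0),(68,0),(44,0),(45,0),(46,0),(47,0),(48,0),(43,0),(44,0),(42,0),(35,0),(36,0),(37,0),(38,0),(39,0),(40,1),(42,1),(44,1),(46,0),(47,0),(48,1),(50,0),(51,0),(52,0),(53,0),(54,0),(55,0),(56,1),(49,0),(50,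
    0),(39,0),(40,0),(29,0),(30,1),(32,0),(33,0),(34,0),(35,0),(36,0),(37,1),(39,0),(40,1),(42,0),(43,0),(44,1),(46,0),(47,0),(42,0),(32,1),(34,0),(35,0),(23,0),(24,1),(26,0),(27,0),(28,0),(29,0),(30,1),(32,
    0),(27,0),(28,0),(25,0),(26,0),(22,0),(23,0),(24,0),(21,0),(22,0),(23,0),(24,1),(26,1),(28,1),(30,0),(31,0),(32,1),(34,0),(35,1),(37,0),(38,0),(39,0),(40,1),(42,1),(44,0),(45,0),(46,0),(47,1),(49,0),(50,
    1),(52,0),(53,0),(54,1),(56,0),(57,1),(59,0),(60,0),(61,1),(63,0),(64,1),(66,0),(67,0),(68,1),(70,0),(71,0),(72,0),(73,0),(74,0),(75,0),(76,0),(77,1),(79,1),(81,1),(83,2),(82,2),(67,0),(68,0),(69,0),(66,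
    0),(67,0),(65,0),(63,1),(65,1),(67,1),(69,1),(71,0),(72,0),(73,0),(74,0),(70,0),(68,0),(62,0),(63,0),(60,1),(62,0),(63,1),(65,0),(66,0),(67,0),(68,1),(70,1),(72,0),(73,0),(74,1),(76,0),(77,0),(78,0),(79,
    0),(80,0),(81,2),(75,0),(76,0),(69,0),(70,1),(72,0),(73,0),(65,0),(66,0),(58,1),(60,0),(61,0),(62,0),(63,1),(65,0),(66,1),(68,0),(45,0),(46,0),(47,0),(48,0),(49,0),(50,0),(51,0),(44,0),(43,0),(44,1),(46,
    0),(47,0),(48,0),(42,0),(43,0),(44,1),(46,0),(31,0),(32,0),(33,0),(29,1),(31,0),(32,0),(33,1),(35,0),(36,0),(37,0),(38,0),(39,0),(40,1),(42,0),(28,0),(29,1),(31,0),(32,0),(33,1),(35,0),(36,0),(37,0),(38,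
    1),(40,0),(27,0),(22,0),(23,0),(24,0),(25,1),(27,1),(29,0),(30,0),(31,0),(32,0),(33,1),(35,0),(36,1),(38,0),(39,0),(40,1),(42,1),(44,0),(45,0),(46,1),(48,1),(50,0),(51,1),(53,0),(54,0),(55,0),(56,0),(35,
    0),(36,0),(37,0),(38,0),(39,0),(40,0),(41,0),(42,0),(43,1),(34,0),(22,0),(23,0),(24,0),(25,0),(26,0),(27,0),(28,1),(30,0),(31,0),(32,1),(34,1),(36,0),(37,0),(17,0),(18,1),(20,0),(21,0),(22,0),(19,0),(11,
    0),(12,1),(14,0),(15,0),(16,0),(17,0),(18,0),(19,1),(21,0),(22,1),(24,0),(25,0),(26,1),(28,0),(29,0),(30,1),(32,0),(33,0),(34,1),(36,0),(37,1),(39,0),(40,0),(41,1),(43,0),(44,1),(46,0),(47,0),(48,1),(50,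
    0),(51,1),(53,0),(54,0),(55,0),(56,1),(58,0),(59,0),(60,0),(61,0),(62,0),(63,1),(65,0),(66,1),(68,1),(70,0),(71,0),(72,0),(73,1),(75,0),(76,1),(78,0),(79,0),(80,2),(75,0),(76,0),(74,0),(67,0),(65,1),(67,
    1),(69,0),(70,0),(64,0),(65,0),(62,1),(64,0),(65,1),(67,0),(68,0),(69,0),(70,1),(72,1),(74,1),(76,1),(78,0),(79,0),(80,2),(77,0),(75,0),(53,1),(55,0),(56,0),(57,0),(58,0),(59,0),(54,0),(55,0),(52,0),(53,
    0),(51,0),(50,0),(51,1),(53,1),(55,1),(57,0),(58,0),(59,1),(61,0),(62,0),(63,0),(64,0),(65,0),(66,0),(67,1),(69,0),(70,0),(60,0),(49,0),(50,0),(51,0),(48,0),(47,0),(48,1),(50,0),(51,1),(53,0),(54,0),(55,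
    1),(57,0),(58,0),(53,0),(36,0),(37,0),(38,0),(35,0),(33,1),(35,1),(37,0),(38,1),(40,0),(41,0),(42,0),(43,0),(44,0),(45,1),(31,1),(33,0),(34,0),(35,1),(37,0),(38,1),(40,0),(41,0),(42,0),(43,1),(45,0),(46,
    1),(48,0),(49,0),(50,0),(51,1),(53,1),(55,0),(56,0),(57,0),(58,1),(60,1),(62,0),(63,0),(64,0),(65,1),(67,0),(40,1),(42,0),(43,0),(44,0),(45,0),(46,0),(47,0),(48,0),(39,0),(40,1),(42,0),(43,0),(44,0),(38,
    0),(39,0),(40,1),(42,0),(37,0),(38,0),(39,0),(40,1),(42,1),(44,1),(46,0),(47,0),(48,1),(50,0),(51,0),(52,0),(53,0),(54,1),(56,0),(36,0),(37,0),(35,0),(33,0),(21,0),(22,0),(23,0),(20,0),(17,0),(18,1),(20,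
    1),(22,0),(23,1),(25,0),(26,0),(27,0),(28,0),(29,0),(30,0),(31,0),(32,0),(33,1),(35,1),(37,1),(39,0),(40,0),(32,0),(33,0),(15,0),(14,0),(15,1),(13,0),(5,0),(6,1),(8,0),(9,0),(10,0),(11,0),(12,0),(13,1),
    (15,0),(16,1),(18,0),(19,0),(20,1),(22,0),(23,1),(25,0),(26,0),(27,0),(28,0),(29,0),(30,1),(32,0),(33,1),(35,0),(36,0),(37,1),(39,0),(40,1),(42,0),(43,0),(44,1),(46,0),(47,0),(48,1),(50,0),(51,0),(52,
    1),(54,0),(55,0),(56,1),(58,0),(59,0),(60,1),(62,0),(63,1),(65,0),(66,0),(67,1),(69,0),(70,1),(72,0),(73,0),(74,0),(75,1),(77,1),(79,2),(78,2),(76,0),(66,0),(67,0),(68,0),(64,1),(66,0),(67,0),(68,1),(70,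
    0),(71,0),(72,0),(73,0),(74,0),(75,0),(76,1),(78,2),(81,0),(75,0),(76,0),(63,0),(64,1),(66,0),(67,0),(68,1),(70,0),(71,0),(72,0),(73,1),(75,0),(76,1),(78,0),(79,0),(72,0),(73,0),(74,0),(62,0),(63,0),(64,
    1),(66,0),(67,0),(68,1),(70,1),(72,0),(73,0),(74,1),(76,0),(77,0),(78,0),(79,1),(81,1),(83,2),(73,0),(74,0),(75,0),(76,0),(77,0),(78,0),(79,0),(80,0),(81,0),(82,2),(83,0),(77,0),(78,0),(75,0),(74,0),(75,
    1),(77,0),(78,1),(80,0),(81,0),(74,0),(75,0),(76,0),(69,0),(61,0),(59,1),(61,1),(63,0),(64,0),(65,0),(66,0),(67,1),(69,1),(71,0),(72,0),(57,1),(59,0),(60,0),(61,1),(63,0),(64,0),(65,1),(67,0),(68,0),(69,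
    1),(71,0),(72,1),(74,0),(75,0),(76,1),(78,0),(79,0),(80,0),(81,1),(83,1),(85,2),(75,0),(76,0),(77,0),(74,0),(75,0),(73,0),(63,0),(64,0),(65,0),(66,0),(62,0),(63,0),(61,0),(59,0),(55,0),(56,0),(57,0),(58,
    0),(59,1),(61,1),(63,1),(65,0),(66,1),(68,0),(69,0),(70,0),(71,1),(73,1),(75,1),(77,1),(79,0),(80,0),(81,0),(82,0),(83,0),(84,2),(78,0),(79,0),(80,0),(76,0),(69,0),(70,0),(71,0),(68,0),(67,0),(68,1),(70,
    0),(71,1),(73,0),(74,0),(75,0),(76,1),(73,0),(74,0),(65,0),(53,1),(55,0),(56,0),(54,0),(52,0),(51,0),(52,1),(54,1),(56,1),(58,0),(59,0),(60,0),(61,0),(62,0),(63,0),(64,0),(65,1),(63,0),(57,0),(58,0),(55,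
    0),(50,0),(49,0),(50,1),(52,0),(53,0),(54,0),(55,1),(57,0),(58,1),(60,0),(61,0),(62,0),(63,1),(65,0),(66,1),(68,0),(69,0),(70,0),(71,1),(73,0),(74,1),(76,0),(77,1),(79,0),(80,1),(82,0),(83,2),(69,0),(70,
    0),(71,0),(72,0),(68,0),(60,0),(61,0),(52,0),(53,0),(47,1),(49,0),(50,1),(52,0),(53,1),(55,0),(56,0),(57,0),(58,1),(60,0),(61,1),(63,0),(64,0),(65,0),(66,1),(68,1),(70,0),(71,0),(72,1),(74,0),(75,0),(76,
    0),(77,1),(79,0),(80,1),(82,2),(78,0),(79,0),(77,0),(63,1),(65,0),(66,0),(67,0),(68,0),(69,1),(71,0),(72,0),(62,0),(63,1),(65,0),(66,0),(67,1),(69,0),(70,0),(61,0),(62,0),(63,1),(65,1),(67,0),(68,0),(60,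
    0),(61,0),(62,0),(63,0),(59,0),(60,0),(58,0),(52,0),(53,0),(54,0),(55,0),(56,1),(58,1),(60,1),(62,0),(63,1),(65,0),(66,0),(67,0),(68,1),(70,1),(72,1),(74,0),(75,1),(77,1),(79,1),(81,0),(82,0),(83,0),(84,
    2),(80,0),(81,0),(82,1),(84,2),(67,0),(68,0),(69,0),(70,0),(66,0),(67,0),(64,1),(66,0),(67,1),(69,0),(70,1),(72,0),(73,0),(74,0),(63,0),(64,1),(66,0),(67,1),(69,0),(70,1),(72,0),(61,1),(63,0),(64,0),(65,
    0),(60,0),(61,1),(63,0),(59,0),(39,0),(40,0),(38,0),(36,1),(38,1),(40,1),(42,0),(43,0),(44,0),(45,0),(46,0),(47,0),(41,0),(39,0),(34,1),(36,0),(37,0),(38,0),(39,1),(41,1),(43,0),(44,0),(45,0),(46,0),(47,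
    1),(49,0),(50,0),(51,0),(52,0),(53,1),(55,0),(56,0),(57,1),(59,1),(61,0),(62,0),(63,1),(65,1),(67,0),(68,0),(69,0),(70,1),(72,1),(74,1),(76,0),(77,0),(78,0),(79,0),(80,0),(81,0),(82,0),(83,2),(71,0),(69,
    1),(71,1),(73,0),(74,0),(75,0),(72,0),(70,0),(68,0),(69,0),(70,1),(72,1),(66,1),(68,0),(69,0),(70,0),(65,0),(66,1),(64,0),(44,0),(45,0),(46,0),(47,0),(48,0),(49,0),(43,0),(44,0),(45,0),(46,0),(40,0),(41,
    1),(43,0),(44,0),(39,1),(41,0),(42,0),(37,1),(39,0),(40,0),(41,0),(42,1),(44,1),(46,1),(48,0),(49,1),(51,0),(52,0),(53,0),(54,0),(55,0),(56,0),(57,0),(58,0),(59,0),(60,1),(62,1),(64,1),(66,0),(67,1),(69,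
    0),(70,1),(72,0),(73,1),(75,1),(77,0),(78,1),(80,0),(81,0),(82,0),(83,0),(84,2),(76,0),(77,0),(78,1),(80,0),(81,0),(82,1),(84,2),(80,0),(71,1),(73,0),(74,0),(75,0),(76,0),(77,0),(78,1),(80,1),(82,0),(75,
    0),(76,0),(77,0),(78,0),(73,0),(74,0),(75,0),(65,1),(67,0),(68,0),(69,0),(70,0),(71,1),(73,0),(53,0),(54,0),(55,0),(52,0),(53,0),(48,0),(49,0),(50,1),(52,0),(53,1),(55,1),(57,0),(58,0),(59,0),(60,0),(61,
    0),(62,0),(63,0),(56,0),(54,0),(41,0),(42,0),(43,0),(44,0),(45,0),(46,0),(47,0),(48,0),(49,0),(50,1),(52,0),(53,0),(54,1),(56,1),(58,0),(59,0),(46,0),(47,1),(49,0),(50,0),(51,0),(52,0),(40,0),(41,0),(38,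
    1),(40,0),(41,1),(43,0),(44,0),(45,0),(46,0),(47,1),(49,0),(43,0),(44,0),(45,0),(36,0),(35,0),(36,1),(38,0),(39,0),(40,0),(41,1),(43,0),(26,0),(27,0),(25,0),(26,0),(27,1),(29,0),(30,0),(31,0),(32,0),(33,
    0),(34,0),(24,0),(21,0),(22,0),(14,1),(16,0),(17,0),(18,0),(19,0),(20,0),(21,0),(22,1),(24,1),(26,0),(27,1),(29,0),(30,0),(31,0),(32,0),(33,0),(34,1),(36,0),(37,0),(38,0),(39,0),(40,0),(41,1),(43,1),(45,
    1),(47,0),(48,0),(49,1),(51,0),(52,1),(54,0),(55,0),(56,1),(58,0),(59,1),(61,0),(62,0),(63,1),(65,0),(66,0),(67,0),(68,0),(69,0),(70,0),(71,1),(73,1),(75,1),(77,0),(78,1),(80,0),(81,0),(82,1),(84,2),(87,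
    0),(81,0),(82,0),(79,1),(81,0),(82,1),(84,0),(85,0),(72,0),(70,1),(72,1),(74,0),(75,0),(76,0),(77,0),(78,0),(79,0),(80,0),(73,0),(71,0),(68,0),(69,0),(70,0),(71,1),(73,1),(75,0),(76,0),(68,0),(69,0),(62,
    0),(63,0),(64,1),(66,0),(42,0),(40,1),(42,1),(44,0),(45,0),(46,0),(47,0),(48,0),(49,0),(50,0),(43,0),(41,0),(33,0),(34,0),(35,0),(36,1),(38,0),(39,0),(40,0),(41,1),(43,1),(45,0),(46,0),(38,0),(39,0),(31,
    0),(32,0),(33,0),(34,1),(36,0),(21,0),(22,0),(19,0),(13,0),(14,1),(16,0),(17,0),(18,0),(19,1),(21,0),(22,1),(24,0),(25,0),(26,0),(27,1),(29,0),(18,0),(19,0),(20,0),(9,0),(10,0),(8,0),(9,0),(10,1),(12,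
    0),(13,0),(14,1),(16,1),(18,0),(19,0),(20,1),(22,0),(23,0),(24,0),(25,0),(26,0),(27,1),(29,1),(31,0),(32,1),(34,0),(35,0),(36,1),(38,0),(39,1),(41,0),(42,0),(43,1),(45,0),(46,1),(48,0),(49,0),(50,1),(52,
    0),(53,0),(54,0),(55,0),(56,1),(58,0),(59,1),(61,0),(62,1),(64,0),(65,0),(66,1),(68,0),(69,1),(71,0),(72,0),(73,1),(75,0),(76,1),(78,0),(79,0),(80,1),(82,0),(83,0),(84,0),(85,1),(87,1),(89,2),(79,0),(80,
    0),(81,0),(82,0),(83,0),(84,0),(85,0),(86,0),(87,0),(88,2),(85,0),(81,0),(74,0),(75,0),(73,0),(72,0),(73,1),(75,1),(77,0),(78,0),(79,0),(65,0),(66,0),(67,0),(63,1),(65,0),(66,0),(67,1),(69,0),(70,0),(71,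
    0),(72,0),(73,0),(62,0),(63,1),(65,0),(66,0),(67,1),(69,0),(70,0),(60,0),(61,0),(59,0),(53,0),(35,0),(36,0),(37,0),(38,0),(39,0),(33,1),(35,0),(36,0),(37,0),(32,0),(33,1),(35,0),(30,0),(31,0),(29,0),(23,
    0),(24,0),(22,0),(15,0),(9,0),(10,0),(11,0),(12,0),(13,1),(15,1),(17,0),(18,0),(19,0),(20,0),(10,0),(11,0),(12,0),(13,0),(9,0),(10,0),(7,0),(8,0),(6,0),(5,0),(6,1),(8,1),(10,1),(12,0),(13,1),(15,0),(16,
    0),(17,0),(18,0),(19,0),(20,1),(22,1),(24,1),(26,0),(27,0),(28,0),(29,1),(31,1),(33,0),(34,0),(35,1),(37,1),(39,1),(41,0),(42,0),(43,0),(44,0),(45,0),(46,0),(47,1),(49,0),(50,0),(51,1),(53,1),(55,0),(56,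
    0),(57,0),(58,0),(59,1),(61,1),(63,0),(64,0),(65,0),(66,0),(67,1),(69,0),(70,1),(72,0),(73,1),(75,0),(76,0),(77,0),(78,0),(79,1),(81,1),(83,1),(85,1),(87,0),(88,0),(89,0),(90,0),(91,0),(92,2),(82,0),(78,
    0),(79,0),(80,1),(82,1),(84,0),(85,0),(86,0),(83,0),(81,0),(77,0),(78,0),(79,0),(80,0),(81,1),(83,1),(76,0),(77,0),(74,1),(76,0),(77,1),(79,0),(80,0),(81,0),(73,0),(74,1),(76,0),(77,1),(71,1),(73,0),(74,
    0),(75,0),(70,0),(71,1),(73,0),(56,0),(57,0),(58,0),(59,0),(55,0),(56,0),(52,0),(53,1),(55,0),(56,1),(58,0),(59,1),(61,0),(62,0),(63,0),(64,0),(65,0),(66,0),(67,1),(69,0),(51,1),(53,0),(54,0),(55,0),(56,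
    1),(58,0),(59,1),(61,0),(62,0),(63,0),(64,0),(65,1),(67,0),(54,0),(55,0),(56,0),(57,0),(58,0),(59,0),(60,1),(62,0),(63,0),(53,0),(50,0),(51,1),(53,1),(55,0),(56,0),(57,0),(58,1),(60,0),(61,0),(55,0),(56,
    0),(54,0),(52,0),(49,0),(50,0),(51,0),(52,1),(54,1),(56,1),(58,0),(59,0),(44,0),(45,0),(46,0),(47,0),(43,0),(41,1),(43,1),(45,0),(46,0),(47,1),(49,0),(50,0),(51,0),(52,0),(53,0),(54,0),(38,0),(39,1),(41,
    0),(42,0),(43,1),(45,0),(46,0),(47,1),(49,0),(50,0),(51,0),(37,1),(39,0),(40,0),(41,0),(42,0),(43,1),(45,0),(46,0),(47,1),(40,0),(36,0),(37,0),(38,1),(40,1),(42,0),(43,0),(44,0),(45,0),(35,0),(36,1),(38,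
    0),(39,0),(40,1),(42,0),(43,0),(38,0),(28,0),(29,0),(30,0),(31,0),(32,1),(34,0),(35,0),(36,1),(38,1),(40,0),(41,0),(27,0),(28,0),(25,1),(27,0),(28,1),(30,0),(31,0),(32,0),(33,0),(34,0),(35,0),(36,0),(24,
    0),(25,1),(27,0),(28,1),(30,0),(31,0),(32,0),(33,0),(23,0),(19,0),(20,0),(21,1),(23,1),(25,0),(26,0),(27,0),(28,1),(30,0),(31,0),(25,0),(26,0),(24,0),(22,0),(18,0),(19,0),(20,0),(21,0),(22,1),(24,1),(26,
    1),(28,0),(29,0),(17,0),(18,0),(19,0),(20,0),(21,0),(22,0),(23,0),(24,0),(16,0),(17,0),(14,1),(16,0),(17,1),(19,0),(20,0),(21,0),(13,0),(14,1),(16,0),(17,1),(11,1),(13,0),(14,0),(15,0),(10,0),(11,1),(13,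
    0),(9,0),(3,1),(5,0),(6,0),(7,1),(9,1),(11,0),(12,0),(13,1),(15,1),(17,0),(18,1),(20,0),(21,1),(23,0),(24,1),(26,0),(27,0),(28,0),(29,1),(31,1),(33,1),(35,0),(36,1),(38,0),(39,0),(40,0),(41,1),(43,1),
    (45,1),(47,0),(48,1),(50,0),(51,1),(53,0),(54,1),(56,0),(57,0),(58,0),(59,1),(61,1),(63,1),(65,0),(66,0),(67,1),(69,1),(71,0),(72,0),(73,1),(75,1),(77,0),(78,1),(80,0),(81,1),(83,0),(84,1),(86,1),(88,
    1),(90,0),(91,0),(92,0),(93,0),(94,2),(87,0),(88,1),(90,0),(82,1),(84,0),(85,0),(86,0),(87,0),(88,1),(90,1),(92,0),(93,2),(92,2),(89,0),(87,1),(89,1),(91,2),(88,0),(89,1),(91,2),(87,1),(89,0),(90,2),(89,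
    2),(88,2),(86,0),(87,2),(85,0),(86,2),(84,0),(85,2),(82,1),(84,2),(83,2),(80,0),(81,0),(82,2),(81,2),(80,2),(79,2),(76,1),(78,2),(72,0),(73,0),(74,0),(70,1),(72,0),(73,0),(74,1),(76,0),(77,0),(78,2),(77,
    0),(78,2),(78,0),(79,0),(77,0),(78,0),(79,1),(81,0),(82,0),(83,0),(84,0),(85,2),(84,0),(85,2),(81,1),(83,0),(84,2),(83,2),(82,2),(78,0),(79,0),(80,0),(81,2),(80,2),(77,0),(78,0),(79,2),(78,0),(76,0),(72,
    0),(73,0),(74,0),(75,0),(76,1),(78,1),(80,0),(81,2),(80,1),(82,2),(81,2),(79,0),(80,2),(79,2),(74,0),(68,0),(69,0),(70,1),(72,0),(73,0),(74,1),(76,0),(77,0),(78,2),(76,0),(77,2),(71,0),(58,0),(59,0),(60,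
    0),(61,0),(57,0),(58,0),(55,1),(57,0),(58,1),(60,0),(61,1),(63,0),(64,0),(65,0),(66,0),(67,0),(68,0),(69,0),(70,0),(71,1),(73,0),(74,1),(76,2),(75,0),(76,2),(72,0),(73,0),(74,0),(75,2),(74,2),(73,2),(72,
    2),(70,0),(71,2),(75,0),(76,0),(77,2),(73,0),(74,1),(76,2),(75,2),(70,1),(72,0),(73,0),(74,2),(69,0),(70,1),(72,0),(73,0),(74,0),(75,2),(73,0),(74,2),(72,1),(74,2),(73,0),(74,2),(72,0),(73,2),(72,2),(71,
    2),(68,0),(69,0),(70,2),(69,2),(67,0),(68,2),(65,0),(66,0),(67,0),(68,0),(63,1),(65,0),(66,0),(67,0),(68,1),(70,2),(69,2),(64,0),(60,0),(61,0),(62,0),(63,0),(64,1),(66,0),(67,0),(68,2),(66,0),(67,2),(65,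
    0),(66,2),(64,0),(65,2),(63,0),(64,2),(61,0),(62,0),(63,2),(59,0),(53,0),(52,0),(53,1),(55,0),(56,0),(57,0),(58,0),(59,1),(61,0),(62,2),(61,2),(60,2),(59,2),(56,0),(57,0),(58,2),(55,0),(56,0),(57,2),(46,
    1),(48,0),(49,0),(50,0),(51,0),(52,0),(53,1),(55,0),(56,2),(55,2),(54,2),(53,2),(49,0),(50,0),(48,0),(49,0),(50,1),(52,2),(51,2),(44,0),(45,0),(46,1),(48,0),(49,0),(50,2),(48,0),(49,2),(47,0),(48,2),(46,
    0),(47,2),(40,0),(41,0),(42,0),(43,0),(39,0),(40,0),(37,1),(39,0),(40,1),(42,0),(43,1),(45,0),(46,2),(44,0),(45,2),(35,0),(34,0),(35,1),(37,0),(38,0),(39,0),(40,1),(42,0),(43,0),(44,2),(43,2),(41,0),(42,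
    2),(40,0),(41,2),(38,0),(39,0),(40,2),(37,0),(38,0),(39,2),(32,0),(33,0),(34,0),(35,1),(37,0),(38,2),(37,2),(36,2),(35,2),(28,0),(29,0),(30,0),(31,0),(32,0),(27,0),(28,0),(25,1),(27,0),(28,1),(30,0),(31,
    0),(32,1),(34,2),(33,2),(23,0),(22,0),(23,1),(25,0),(26,0),(27,0),(28,1),(30,0),(31,0),(32,2),(30,0),(31,2),(29,0),(30,2),(28,0),(29,2),(26,0),(27,0),(28,2),(25,0),(26,0),(27,2),(16,1),(18,0),(19,0),(20,
    0),(21,0),(22,0),(23,1),(25,0),(26,2),(25,2),(24,2),(23,2),(19,0),(20,0),(18,0),(19,0),(20,1),(22,2),(21,2),(14,0),(15,0),(16,1),(18,0),(19,0),(20,2),(18,0),(19,2),(17,0),(18,2),(16,0),(17,2),(12,0),(13,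
    0),(10,1),(12,0),(13,1),(15,0),(16,2),(14,0),(15,2),(8,0),(9,0),(10,1),(12,0),(13,0),(14,2),(13,2),(11,0),(12,2),(10,0),(11,2),(8,0),(9,0),(6,0),(7,0),(8,0),(9,1),(11,2),(8,0),(9,0),(10,0),(11,2),(7,0),
    (8,0),(5,1),(7,0),(8,1),(10,2),(9,2),(4,0),(5,0),(6,0),(7,0),(8,2),(2,1),(4,0),(5,0),(6,0),(7,2),(5,0),(6,0),(7,2),(4,0),(1,0),(2,1),(4,1),(6,2),(5,2),(3,0),(0,0),(1,0),(2,0),(3,1),(5,2),(4,0),(5,0),(6,
    0),(7,0),(8,0),(9,0),(10,0),(11,2),(19,0),(20,0),(21,2),(15,0),(16,1),(18,0),(19,0),(20,2),(19,2),(17,0),(18,2),(10,1),(12,0),(13,0),(14,0),(15,0),(16,0),(17,2),(16,2),(13,0),(14,0),(15,2),(12,0),(13,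
    0),(14,0),(15,2),(14,0),(15,2),(13,0),(14,2),(12,0),(13,0),(14,0),(15,2),(13,0),(14,2),(12,0),(13,2),(12,2),(16,0),(17,0),(18,2),(13,0),(11,0),(10,0),(11,1),(13,1),(15,0),(16,0),(17,2),(9,0),(7,0),(8,
    0),(9,1),(11,0),(12,0),(13,1),(15,0),(16,2),(11,0),(6,0),(5,0),(6,1),(8,0),(9,1),(11,1),(13,0),(14,0),(15,2),(14,2),(13,2),(11,1),(13,2),(12,2),(9,1),(11,2),(7,0),(6,0),(7,1),(9,0),(10,2),(9,2),(8,2),
    (7,2),(6,0),(7,0),(8,2),(6,1),(8,0),(9,0),(10,2),(4,0),(5,0),(6,1),(8,0),(9,2),(8,2),(7,2),(3,0),(4,0),(5,0),(6,2),(5,2),(4,2),(3,0),(4,2),(9,0),(10,0),(11,2),(9,0),(10,0),(11,2),(5,1),(7,0),(8,0),(9,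
    0),(10,0),(11,2),(9,0),(10,2),(9,2),(2,0),(3,0),(4,0),(5,1),(7,0),(8,2),(7,2),(6,2),(5,2),(2,0),(3,0),(4,2),(3,2),(2,2),(1,2),(0,2)]

/-- The word of the transposition commuting with the letters of `E₇`. -/
def tw : List ℕ :=
    [1,2,3,4,5,6,8,1,2,3,4,5,6,8,1,2,3,4,5,6,8,1,2,3,4,5,6,8,1,2,3,4,5,6,8,1,2,3,4,5,6,8,1,2,3,4,5,6,8,1,2,3,4,5,6,8,1,2,3,4,5,6,8]

/-- Conjugating words for the commuting pairs of letters. -/
def pairs : List (ℕ × ℕ × List ℕ) :=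
  [(0,2,[1,2,3,4,5,8,3,2,1,4,3,2,8,3,4,5,7,6,5,4,3,2,1,0,8,3,2,4,3,5,4,6,5,7,6,8,3,2,4,3,5,4,8,3,2,1]),
   (0,3,[1,0,2,1,3,2,4,3,5,4,7,6,5,4,3,2,1,0,8,3,2,4,3,5,4,6,5,7,6,8,3,2,4,3,5,4,8,3,2,1]),
   (0,4,[1,0,2,1,3,2,4,3,7,6,5,4,3,2,1,0,8,3,2,4,3,5,4,6,5,7,6,8,3,2,4,3,5,4,8,3,2,1]),
   (0,5,[1,0,2,1,3,2,7,6,5,4,3,2,1,0,8,3,2,4,3,5,4,6,5,7,6,8,3,2,4,3,5,4,8,3,2,1]),
   (0,6,[1,0,2,1,7,6,5,4,3,2,1,0,8,3,2,4,3,5,4,6,5,7,6,8,3,2,4,3,5,4,8,3,2,1]),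
   (0,7,[1,0,7,6,5,4,3,2,1,0,8,3,2,4,3,5,4,6,5,7,6,8,3,2,4,3,5,4,8,3,2,1]),
   (0,8,[1,0,2,1,3,2,4,3,5,4,6,5,7,6,5,4,3,2,1,0,8,3,2,4,3,5,4,6,5,7,6,8,3,2,4,3,5,4,8,3,2,1]),
   (0,9,[1,0,2,3,4,5,8,3,2,4,3,8,9,7,6,5,4,3,2,1,0,8,3,2,4,3,5,4,6,5,7,6,8,3,2,4,3,5,4,8,3,2,1]),
   (1,3,[1,0,2,1,3,2,4,3,5,4,7,6,5,4,3,2,1,8,3,2,4,3,5,4,6,5,7,6,8,3,2,4,3,5,4,8,3,2]),
   (1,4,[1,0,2,1,3,2,4,3,7,6,5,4,3,2,1,8,3,2,4,3,5,4,6,5,7,6,8,3,2,4,3,5,4,8,3,2]),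
   (1,5,[1,0,2,1,3,2,7,6,5,4,3,2,1,8,3,2,4,3,5,4,6,5,7,6,8,3,2,4,3,5,4,8,3,2]),
   (1,6,[1,0,2,1,7,6,5,4,3,2,1,8,3,2,4,3,5,4,6,5,7,6,8,3,2,4,3,5,4,8,3,2]),
   (1,7,[1,0,7,6,5,4,3,2,1,8,3,2,4,3,5,4,6,5,7,6,8,3,2,4,3,5,4,8,3,2]),
   (1,8,[1,0,2,1,3,2,4,3,5,4,6,5,7,6,5,4,3,2,1,8,3,2,4,3,5,4,6,5,7,6,8,3,2,4,3,5,4,8,3,2]),
   (1,9,[1,0,2,3,4,5,8,3,2,4,3,8,9,7,6,5,4,3,2,1,8,3,2,4,3,5,4,6,5,7,6,8,3,2,4,3,5,4,8,3,2]),
   (2,4,[1,0,2,1,3,2,4,3,7,6,5,4,3,2,1,8,3,2,4,3,5,4,6,5,7,6,8,3,2,1,4,3,5,4,8,3]),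
   (2,5,[1,0,2,1,3,2,7,6,5,4,3,2,1,8,3,2,4,3,5,4,6,5,7,6,8,3,2,1,4,3,5,4,8,3]),
   (2,6,[1,0,2,1,7,6,5,4,3,2,1,8,3,2,4,3,5,4,6,5,7,6,8,3,2,1,4,3,5,4,8,3]),
   (2,7,[1,0,7,6,5,4,3,2,1,8,3,2,4,3,5,4,6,5,7,6,8,3,2,1,4,3,5,4,8,3]),
   (2,8,[1,0,2,1,3,2,4,3,5,4,6,5,7,6,5,4,3,2,1,8,3,2,4,3,5,4,6,5,7,6,8,3,2,1,4,3,5,4,8,3]),
   (2,9,[1,0,2,3,4,5,8,3,2,4,3,8,9,7,6,5,4,3,2,1,8,3,2,4,3,5,4,6,5,7,6,8,3,2,1,4,3,5,4,8,3]),
   (3,5,[1,0,2,1,3,2,7,6,5,4,3,2,1,8,3,2,4,3,5,4,6,5,7,6,8,3,2,1,4,3,2,5,4,8]),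
   (3,6,[1,0,2,1,7,6,5,4,3,2,1,8,3,2,4,3,5,4,6,5,7,6,8,3,2,1,4,3,2,5,4,8]),
   (3,7,[1,0,7,6,5,4,3,2,1,8,3,2,4,3,5,4,6,5,7,6,8,3,2,1,4,3,2,5,4,8]),
   (3,9,[1,0,2,3,4,5,8,3,2,4,3,8,9,7,6,5,4,3,2,1,8,3,2,4,3,5,4,6,5,7,6,8,3,2,1,4,3,2,5,4,8]),
   (4,6,[1,0,2,1,7,6,5,4,3,2,1,8,3,2,4,3,5,4,6,5,7,6,8,3,2,1,4,3,2,5,8,3]),
   (4,7,[1,0,7,6,5,4,3,2,1,8,3,2,4,3,5,4,6,5,7,6,8,3,2,1,4,3,2,5,8,3]),
   (4,8,[1,0,2,1,3,2,8,3,7,6,5,4,3,2,1,8,3,2,4,3,5,4,6,5,7,6,8,3,2,1,4,3,2,5,8,3]),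
   (4,9,[1,0,2,3,4,5,8,3,2,4,3,8,9,7,6,5,4,3,2,1,8,3,2,4,3,5,4,6,5,7,6,8,3,2,1,4,3,2,5,8,3]),
   (5,7,[1,0,7,6,5,4,3,2,1,8,3,2,4,3,5,4,6,5,7,6,8,3,2,1,4,3,2,8,3,4]),
   (5,8,[1,0,2,1,3,2,8,3,7,6,5,4,3,2,1,8,3,2,4,3,5,4,6,5,7,6,8,3,2,1,4,3,2,8,3,4]),
   (5,9,[1,0,2,3,4,5,8,3,2,4,3,8,9,7,6,5,4,3,2,1,8,3,2,4,3,5,4,6,5,7,6,8,3,2,1,4,3,2,8,3,4]),
   (6,8,[1,0,2,1,3,2,8,3,7,6,5,4,3,2,1,8,3,2,4,3,5,4,6,5,7,8,3,2,1,4,3,2,8,3,4,5]),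
   (6,9,[1,0,2,3,4,5,8,3,2,4,3,8,9,7,6,5,4,3,2,1,8,3,2,4,3,5,4,6,5,7,8,3,2,1,4,3,2,8,3,4,5]),
   (7,8,[1,0,2,1,3,2,8,3,7,6,5,4,3,2,1,8,3,2,4,3,5,4,6,5,8,3,2,1,4,3,2,8,3,4,5,6]),
   (7,9,[1,0,2,3,4,5,8,3,2,4,3,8,9,7,6,5,4,3,2,1,8,3,2,4,3,5,4,6,5,8,3,2,1,4,3,2,8,3,4,5,6])]

/-- A tree of the orbit of the point `0` under the letters `1, …, 9`. -/
def orbTree : List (ℕ × ℕ × ℕ) :=
    [(1,0,6),(2,1,5),(3,2,4),(4,3,3),(5,4,2),(6,5,1),(7,5,7),(8,6,0),(9,6,7),(10,7,8),(12,8,7),(13,9,2),(14,9,8),(16,12,2),(17,12,8),(18,13,3),(19,13,8),(22,16,1),(23,16,3),(24,16,8),(25,18,4),(26,18,8),(27,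
    19,7),(31,22,3),(32,22,8),(33,23,4),(34,23,8),(35,24,7),(36,25,5),(37,25,8),(38,26,7),(45,31,2),(46,31,4),(47,31,8),(48,32,7),(49,33,5),(50,33,8),(51,34,7),(52,36,6),(53,36,8),(54,37,7),(55,38,2),(65,
    45,4),(66,45,7),(67,45,8),(68,46,5),(69,46,8),(70,47,7),(71,48,2),(72,49,6),(73,49,8),(74,50,7),(75,51,2),(76,52,8),(77,53,7),(78,54,2),(79,55,1),(95,65,3),(96,65,5),(97,65,7),(98,65,8),(99,66,8),(100,
    67,7),(101,68,6),(102,68,8),(103,69,7),(104,70,2),(105,71,3),(106,72,8),(107,73,7),(108,74,2),(109,75,1),(110,76,7),(111,77,2),(112,78,1),(113,78,3),(114,79,0),(138,95,5),(139,95,7),(140,95,8),(141,96,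
    6),(142,96,7),(143,96,8),(144,97,8),(145,98,7),(146,99,7),(147,100,2),(148,101,8),(149,102,7),(150,103,2),(151,104,1),(152,104,3),(153,105,4),(154,106,7),(155,107,2),(156,108,1),(157,108,3),(158,109,0),
    (159,110,2),(160,111,1),(161,111,3),(162,112,0),(163,112,3),(201,138,4),(202,138,6),(203,138,7),(204,138,8),(205,139,2),(206,139,8),(207,140,7),(208,141,7),(209,141,8),(210,142,8),(211,143,7),(212,144,
    7),(213,145,2),(214,146,2),(215,147,1),(216,147,3),(217,148,7),(218,149,2),(219,150,1),(220,150,3),(221,151,0),(222,151,3),(223,152,4),(224,153,5),(225,154,2),(226,155,1),(227,155,3),(228,156,0),(229,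
    156,3),(231,159,1),(232,159,3),(233,160,0),(234,160,3),(235,161,4),(237,162,3),(238,163,2),(293,201,6),(294,201,7),(295,201,8),(296,202,7),(297,202,8),(298,203,2),(299,203,8),(300,204,7),(301,205,1),(302,
    205,8),(303,206,7),(304,207,2),(305,208,8),(306,209,7),(307,210,7),(308,211,2),(309,212,2),(310,213,1),(311,213,3),(312,214,1),(313,214,3),(314,215,0),(315,215,3),(316,216,4),(317,217,2),(318,218,1),(319,
    218,3),(320,219,0),(321,219,3),(322,220,4),(324,221,3),(325,222,4),(326,223,5),(327,224,6),(328,225,1),(329,225,3),(330,226,0),(331,226,3),(332,227,4),(334,228,3),(335,229,2),(336,231,0),(337,231,3),(338,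
    232,4),(340,233,3),(341,234,2),(342,234,4),(344,237,2),(345,238,7),(429,293,5),(430,293,7),(431,293,8),(432,294,2),(433,294,8),(434,295,7),(435,296,2),(436,296,8),(437,297,7),(438,298,1),(439,298,8),(440,
    299,7),(441,300,2),(442,301,0),(443,301,8),(444,302,7),(445,303,2),(446,304,1),(447,304,3),(448,305,7),(449,306,2),(450,307,2),(451,308,1),(452,308,3),(453,309,1),(454,309,3),(455,310,0),(456,310,3),(457,
    311,4),(458,312,0),(459,312,3),(460,313,4),(462,314,3),(463,315,2),(464,315,4),(465,316,5),(466,317,1),(467,317,3),(468,318,0),(469,318,3),(470,319,4),(472,320,3),(473,321,2),(474,321,4),(475,322,5),(477,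
    324,4),(478,325,5),(479,326,6),(480,328,0),(481,328,3),(482,329,4),(484,330,3),(485,331,2),(486,331,4),(488,334,2),(489,335,7),(491,336,3),(492,337,2),(493,337,4),(494,338,5),(496,340,2),(497,340,4),(498,
    341,4),(499,341,7),(620,429,7),(621,429,8),(622,430,2),(623,430,8),(624,431,7),(625,432,1),(626,432,3),(627,432,8),(628,433,7),(629,434,2),(630,435,1),(631,435,8),(632,436,7),(633,437,2),(634,438,0),(635,
    438,8),(636,439,7),(637,440,2),(638,441,1),(639,441,3),(640,444,2),(641,445,1),(642,445,3),(643,446,0),(644,446,3),(645,447,4),(646,448,2),(647,449,1),(648,449,3),(649,450,1),(650,450,3),(651,451,0),(652,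
    451,3),(653,452,4),(654,453,0),(655,453,3),(656,454,4),(658,455,3),(659,456,2),(660,456,4),(661,457,5),(663,458,3),(664,459,2),(665,459,4),(666,460,5),(668,462,2),(669,462,4),(670,463,4),(671,464,5),(672,
    465,6),(673,466,0),(674,466,3),(675,467,4),(677,468,3),(678,469,2),(679,469,4),(680,470,5),(682,472,2),(683,472,4),(684,473,4),(685,473,7),(686,474,5),(687,475,6),(689,477,5),(690,478,6),(692,480,3),(693,
    481,2),(694,481,4),(695,482,5),(697,484,2),(698,484,4),(699,485,4),(700,485,7),(703,491,2),(704,491,4),(705,492,4),(706,492,7),(707,493,5),(710,496,4),(711,498,3),(712,498,7),(883,620,2),(884,620,8),(885,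
    621,7),(886,622,1),(887,622,3),(888,622,8),(889,623,7),(890,624,2),(891,625,0),(892,625,3),(893,625,8),(894,626,8),(895,627,7),(896,628,2),(897,629,1),(898,629,3),(899,630,0),(900,630,8),(901,631,7),(902,
    632,2),(903,633,1),(904,633,3),(905,636,2),(906,637,1),(907,637,3),(908,638,0),(909,638,3),(910,639,4),(911,640,3),(912,641,3),(913,642,4),(914,643,3),(915,644,2),(916,644,4),(917,645,5),(918,646,1),(919,
    646,3),(920,647,0),(921,647,3),(922,648,4),(923,649,0),(924,649,3),(925,650,4),(927,651,3),(928,652,2),(929,652,4),(930,653,5),(932,654,3),(933,655,2),(934,655,4),(935,656,5),(937,658,2),(938,658,4),(939,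
    659,4),(940,659,7),(941,660,5),(942,661,6),(944,663,2),(945,663,4),(946,664,4),(947,664,7),(948,665,5),(949,666,6),(952,668,1),(953,668,4),(954,669,5),(955,670,3),(956,670,5),(957,671,6),(959,673,3),(960,
    674,2),(961,674,4),(962,675,5),(964,677,2),(965,677,4),(966,678,4),(967,678,7),(968,679,5),(969,680,6),(972,682,4),(973,683,5),(974,684,5),(975,684,7),(976,686,6),(978,689,6),(980,692,2),(981,692,4),(982,
    693,4),(983,693,7),(984,694,5),(987,697,4),(988,699,3),(989,699,7),(992,703,4),(993,704,5),(994,705,3),(995,705,5),(996,705,7),(998,710,3),(999,711,7),(1237,883,1),(1238,883,3),(1239,883,8),(1240,884,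
    7),(1241,885,2),(1242,886,0),(1243,886,3),(1244,886,8),(1245,887,8),(1246,888,7),(1247,889,2),(1248,890,1),(1249,890,3),(1250,891,3),(1251,892,2),(1252,892,8),(1253,894,7),(1254,895,2),(1255,896,1),(1256,
    896,3),(1257,897,0),(1258,897,3),(1259,898,4),(1260,901,2),(1261,902,1),(1262,902,3),(1263,903,0),(1264,903,3),(1265,904,4),(1266,905,3),(1267,906,3),(1268,907,4),(1269,908,3),(1270,909,2),(1271,909,4),
    (1272,910,5),(1273,911,4),(1274,912,2),(1275,912,4),(1276,913,5),(1277,914,2),(1278,914,4),(1279,915,4),(1280,915,7),(1281,916,5),(1282,917,6),(1283,918,0),(1284,918,3),(1285,919,4),(1287,920,3),(1288,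
    921,2),(1289,921,4),(1290,922,5),(1292,923,3),(1293,924,2),(1294,924,4),(1295,925,5),(1297,927,2),(1298,927,4),(1299,928,4),(1300,928,7),(1301,929,5),(1302,930,6),(1304,932,2),(1305,932,4),(1306,933,4),
    (1307,933,7),(1308,934,5),(1309,935,6),(1312,937,4),(1313,938,5),(1314,939,3),(1315,939,5),(1316,939,7),(1317,941,6),(1320,944,1),(1321,944,4),(1322,944,7),(1323,945,5),(1324,946,3),(1325,946,5),(1326,
    946,7),(1327,948,6),(1331,952,4),(1332,953,3),(1333,953,5),(1334,954,6),(1335,955,5),(1336,956,6),(1338,959,2),(1339,959,4),(1340,960,4),(1341,960,7),(1342,961,5),(1343,962,6),(1346,964,4),(1347,965,5),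
    (1348,966,3),(1349,966,5),(1350,966,7),(1351,968,6),(1354,972,5),(1355,973,6),(1356,974,6),(1357,974,7),(1361,980,4),(1362,981,5),(1363,982,3),(1364,982,5),(1365,982,7),(1367,987,3),(1368,988,7),(1371,
    992,3),(1372,992,5),(1373,994,5),(1374,994,7),(1375,995,7),(1377,999,2),(1712,1237,0),(1713,1237,3),(1714,1237,8),(1715,1238,4),(1716,1238,8),(1717,1239,7),(1718,1240,2),(1719,1241,1),(1720,1241,3),(1721,
    1242,3),(1722,1243,2),(1723,1243,8),(1724,1245,7),(1725,1246,2),(1726,1247,1),(1727,1247,3),(1728,1248,0),(1729,1248,3),(1730,1249,4),(1731,1250,2),(1732,1251,7),(1733,1251,8),(1734,1253,2),(1735,1254,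
    3),(1736,1255,3),(1737,1256,4),(1738,1257,3),(1739,1258,2),(1740,1258,4),(1741,1259,5),(1742,1260,3),(1743,1261,3),(1744,1262,4),(1745,1263,3),(1746,1264,2),(1747,1264,4),(1748,1265,5),(1749,1266,4),(1750,
    1267,2),(1751,1267,4),(1752,1268,5),(1753,1269,2),(1754,1269,4),(1755,1270,4),(1756,1270,7),(1757,1271,5),(1758,1272,6),(1759,1273,5),(1760,1274,4),(1761,1275,5),(1762,1276,6),(1763,1277,1),(1764,1277,
    4),(1765,1277,7),(1766,1278,5),(1767,1279,3),(1768,1279,5),(1769,1279,7),(1770,1281,6),(1772,1283,3),(1773,1284,2),(1774,1284,4),(1775,1285,5),(1777,1287,2),(1778,1287,4),(1779,1288,4),(1780,1288,7),(1781,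
    1289,5),(1782,1290,6),(1784,1292,2),(1785,1292,4),(1786,1293,4),(1787,1293,7),(1788,1294,5),(1789,1295,6),(1792,1297,4),(1793,1298,5),(1794,1299,3),(1795,1299,5),(1796,1299,7),(1797,1301,6),(1800,1304,
    4),(1801,1305,5),(1802,1306,3),(1803,1306,5),(1804,1306,7),(1805,1308,6),(1808,1312,3),(1809,1312,5),(1810,1313,6),(1811,1314,5),(1812,1314,7),(1813,1315,6),(1814,1315,7),(1819,1320,4),(1820,1320,7),(1821,
    1321,3),(1822,1321,5),(1823,1321,7),(1824,1323,6),(1825,1324,5),(1826,1324,7),(1827,1325,6),(1828,1325,7),(1834,1331,3),(1835,1331,5),(1836,1332,5),(1837,1333,6),(1838,1335,4),(1839,1335,6),(1842,1338,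
    4),(1843,1339,5),(1844,1340,3),(1845,1340,5),(1846,1340,7),(1847,1342,6),(1850,1346,3),(1851,1346,5),(1852,1347,6),(1853,1348,5),(1854,1348,7),(1855,1349,6),(1856,1349,7),(1859,1354,6),(1860,1356,7),(1863,
    1361,3),(1864,1361,5),(1865,1363,5),(1866,1363,7),(1867,1364,7),(1869,1368,2),(1872,1371,5),(1873,1373,4),(1874,1373,7),(1875,1374,2),(1876,1377,1),(2341,1712,3),(2342,1713,2),(2343,1713,4),(2344,1713,
    8),(2345,1715,8),(2346,1716,7),(2347,1717,2),(2348,1718,1),(2349,1718,3),(2350,1719,0),(2351,1719,3),(2352,1720,4),(2353,1721,2),(2354,1722,7),(2355,1722,8),(2356,1724,2),(2357,1725,3),(2358,1726,3),(2359,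
    1727,4),(2360,1728,3),(2361,1729,2),(2362,1729,4),(2363,1730,5),(2364,1731,1),(2365,1731,7),(2366,1734,3),(2367,1735,4),(2368,1736,2),(2369,1736,4),(2370,1737,5),(2371,1738,2),(2372,1738,4),(2373,1739,
    4),(2374,1739,7),(2375,1740,5),(2376,1741,6),(2377,1742,4),(2378,1743,2),(2379,1743,4),(2380,1744,5),(2381,1745,2),(2382,1745,4),(2383,1746,4),(2384,1746,7),(2385,1747,5),(2386,1748,6),(2387,1749,5),(2388,
    1750,4),(2389,1751,5),(2390,1752,6),(2391,1753,1),(2392,1753,4),(2393,1753,7),(2394,1754,5),(2395,1755,3),(2396,1755,5),(2397,1755,7),(2398,1757,6),(2399,1759,6),(2400,1760,3),(2401,1760,5),(2402,1761,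
    6),(2403,1763,4),(2404,1764,3),(2405,1764,5),(2406,1764,7),(2407,1766,6),(2408,1767,5),(2409,1767,7),(2410,1768,6),(2411,1768,7),(2413,1772,2),(2414,1772,4),(2415,1773,4),(2416,1773,7),(2417,1774,5),(2418,
    1775,6),(2421,1777,4),(2422,1778,5),(2423,1779,3),(2424,1779,5),(2425,1779,7),(2426,1781,6),(2429,1784,4),(2430,1785,5),(2431,1786,3),(2432,1786,5),(2433,1786,7),(2434,1788,6),(2437,1792,3),(2438,1792,
    5),(2439,1793,6),(2440,1794,5),(2441,1794,7),(2442,1795,6),(2443,1795,7),(2446,1800,3),(2447,1800,5),(2448,1801,6),(2449,1802,5),(2450,1802,7),(2451,1803,6),(2452,1803,7),(2456,1808,5),(2457,1809,6),(2458,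
    1811,4),(2459,1811,6),(2460,1811,7),(2461,1813,7),(2469,1819,3),(2470,1819,5),(2471,1819,7),(2472,1820,2),(2473,1821,5),(2474,1821,7),(2475,1822,6),(2476,1822,7),(2477,1825,4),(2478,1825,6),(2479,1825,
    7),(2480,1826,2),(2481,1827,7),(2487,1834,2),(2488,1834,5),(2489,1835,6),(2490,1836,4),(2491,1836,6),(2492,1838,6),(2495,1842,3),(2496,1842,5),(2497,1843,6),(2498,1844,5),(2499,1844,7),(2500,1845,6),(2501,
    1845,7),(2505,1850,5),(2506,1851,6),(2507,1853,6),(2508,1853,7),(2509,1854,2),(2510,1855,7),(2514,1863,5),(2515,1865,4),(2516,1865,7),(2517,1866,2),(2518,1869,1),(2520,1872,4),(2521,1873,7),(2522,1874,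
    2),(2523,1875,1),(3152,2341,2),(3153,2341,4),(3154,2342,4),(3155,2342,7),(3156,2342,8),(3157,2343,8),(3158,2345,7),(3159,2346,2),(3160,2347,3),(3161,2348,3),(3162,2349,4),(3163,2350,3),(3164,2351,2),(3165,
    2351,4),(3166,2352,5),(3167,2353,1),(3168,2353,7),(3169,2356,3),(3170,2357,4),(3171,2358,2),(3172,2358,4),(3173,2359,5),(3174,2360,2),(3175,2360,4),(3176,2361,4),(3177,2361,7),(3178,2362,5),(3179,2363,
    6),(3180,2364,7),(3181,2366,4),(3182,2367,5),(3183,2368,4),(3184,2369,5),(3185,2370,6),(3186,2371,1),(3187,2371,4),(3188,2371,7),(3189,2372,5),(3190,2373,3),(3191,2373,5),(3192,2373,7),(3193,2375,6),(3194,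
    2377,5),(3195,2378,4),(3196,2379,5),(3197,2380,6),(3198,2381,1),(3199,2381,4),(3200,2381,7),(3201,2382,5),(3202,2383,3),(3203,2383,5),(3204,2383,7),(3205,2385,6),(3206,2387,6),(3207,2388,3),(3208,2388,
    5),(3209,2389,6),(3210,2391,4),(3211,2392,3),(3212,2392,5),(3213,2392,7),(3214,2394,6),(3215,2395,5),(3216,2395,7),(3217,2396,6),(3218,2396,7),(3219,2400,5),(3220,2401,6),(3221,2403,3),(3222,2403,5),(3223,
    2404,5),(3224,2404,7),(3225,2405,6),(3226,2405,7),(3227,2408,4),(3228,2408,6),(3229,2408,7),(3230,2409,2),(3231,2410,7),(3234,2413,4),(3235,2414,5),(3236,2415,3),(3237,2415,5),(3238,2415,7),(3239,2417,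
    6),(3242,2421,3),(3243,2421,5),(3244,2422,6),(3247,2429,3),(3248,2429,5),(3249,2430,6),(3250,2431,5),(3251,2431,7),(3252,2432,6),(3253,2432,7),(3257,2437,5),(3258,2438,6),(3262,2446,5),(3263,2447,6),(3264,
    2449,4),(3265,2449,6),(3266,2449,7),(3267,2450,2),(3268,2451,7),(3271,2456,4),(3272,2456,6),(3281,2469,2),(3282,2469,5),(3283,2469,7),(3284,2470,6),(3285,2470,7),(3286,2471,2),(2624,2472,3),(3287,2473,
    4),(3288,2473,6),(3289,2473,7),(3290,2474,2),(3291,2475,7),(3292,2477,6),(3293,2477,7),(3294,2478,7),(3295,2479,2),(3296,2480,1),(3304,2487,5),(3305,2488,4),(3306,2488,6),(3307,2490,6),(3311,2495,5),(3312,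
    2496,6),(3315,2505,6),(3317,2514,4),(3319,2521,2),(3320,2522,1),(4131,3152,1),(4132,3152,4),(4133,3152,7),(4134,3154,3),(4135,3154,7),(4136,3154,8),(4137,3158,2),(4138,3159,3),(4139,3160,4),(4140,3161,
    2),(4141,3161,4),(4142,3162,5),(4143,3167,7),(4144,3169,4),(4145,3170,5),(4146,3171,4),(4147,3172,5),(4148,3173,6),(4149,3174,7),(4150,3180,2),(4151,3181,5),(4152,3182,6),(4153,3183,3),(4154,3183,5),(4155,
    3184,6),(4156,3186,7),(4157,3187,3),(4158,3187,7),(4159,3194,6),(4160,3195,3),(4161,3195,5),(4162,3198,4),(4163,3199,7),(4164,3207,5),(4165,3208,6),(4166,3210,3),(4167,3210,5),(4168,3211,7),(4169,3212,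
    7),(4170,3219,4),(4171,3219,6),(4172,3221,2),(4173,3221,5),(4174,3222,6),(4175,3223,7),(4176,3224,2),(4177,3225,7),(4180,3234,3),(4181,3234,5),(4182,3235,6),(4189,3247,5),(4190,3248,6),(4195,3262,4),(4196,
    3262,6),(4197,3266,2),(4212,3281,5),(4213,3282,4),(4214,3282,6),(4215,3282,7),(4216,3284,7),(4217,3285,2),(4218,3287,7),(4219,3288,7),(4220,3289,2),(4221,3295,1),(4233,3319,1),(4234,3319,3),(5256,4131,
    4),(5257,4131,7),(5258,4132,3),(5259,4132,7),(5260,4134,7),(5261,4134,8),(5262,4137,3),(5263,4138,4),(5264,4139,5),(5265,4143,2),(5266,4144,5),(5267,4145,6),(5268,4150,3),(5269,4151,6),(5270,4156,2),(5279,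
    4213,7),(5280,4214,7),(5281,4216,2),(5286,4233,3),(6522,5256,3),(6523,5256,7),(6524,5257,2),(6525,5258,7),(6526,5260,2),(6527,5262,4),(6528,5263,5),(6529,5265,3),(6530,5266,6),(6531,5268,4),(5293,5270,
    3),(6537,5286,2),(7999,6522,2),(8000,6522,7),(8001,6523,2),(8002,6524,3),(8003,6525,2),(8004,6526,1),(6543,6527,5),(8005,6529,4),(8006,6531,5),(8007,6537,7)]

theorem hC : runOK 10 adj movesC (e7W ++ e7W) 63 = true := by decide +kernel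

theorem hW : runOK 10 adj movesW (spiderW ++ g1 ++ spiderW ++ g1.reverse ++ g2 ++ spiderW ++ g2.reverse) 224 = true := by
  decide +kernel

end Cfsg.Agent.Lib.Schur.Fi23c.Data
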